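import Groth.Agent.EGA73.IntegralNormal
import Groth.Agent.SchBasics.Local
import Groth.Agent.Stein58.GeomConnGamma
import Mathlib.AlgebraicGeometry.Morphisms.FiniteType
import Mathlib.AlgebraicGeometry.Morphisms.Proper

/-!
Normality descends along morphisms with `f_* O = O`.
-/

set_option autoImplicit false
set_option linter.style.haveILetI false

noncomputable section

universe u

open CategoryTheory AlgebraicGeometry TopologicalSpace Opposite

namespace Groth.Agent.NormalPush99

theorem isIntegrallyClosed_of_opens {Y : Scheme.{u}} [IsIntegral Y] (hY : Pi1.IsNormalScheme Y) (W : Y.Opens)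
    [Nonempty W] : IsIntegrallyClosed Γ(Y, W) := by
  let g : Γ(Y, W) →+* Y.functionField := (Y.germToFunctionField W).hom
  have hg : Function.Injective g := Y.germToFunctionField_injective W
  let j : FractionRing Γ(Y, W) →+* Y.functionField := IsFractionRing.lift hg
  rw [isIntegrallyClosed_iff (FractionRing Γ(Y, W))]
  intro x hx
  obtain ⟨p, hp, hpx⟩ := hx
  have hq : p.eval₂ g (j x) = 0 := by
    have := congrArg j hpx
    rw [Polynomial.hom_eval₂, map_zero] at this
    refine Eq.trans ?_ this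
    congr 1
    ext a
    exact (IsFractionRing.lift_algebraMap hg a).symm
  let ι := {V : Y.affineOpens // V.1 ≤ W ∧ Nonempty V.1}
  have hcV : ∀ V : ι, ∃ c : Γ(Y, V.1.1),
      (haveI := V.2.2; (Y.germToFunctionField V.1.1).hom c = j x) := by
    intro V
    haveI := V.2.2
    haveI := EGA73.isIntegrallyClosed_sections hY V.1.2
    haveI := functionField_isFractionRing_of_isAffineOpen Y V.1.1 V.1.2
    refine IsIntegrallyClosed.isIntegral_iff.mp
      ⟨p.map (Y.presheaf.map (homOfLE V.2.1).op).hom, hp.map _, ?_⟩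
    rw [Polynomial.eval₂_map]
    refine Eq.trans ?_ hq
    congr 1
    ext a
    exact Y.presheaf.germ_res_apply (homOfLE V.2.1) (genericPoint Y) _ a
  choose c hc using hcV
  obtain ⟨s, hs, -⟩ := TopCat.Sheaf.existsUnique_gluing' Y.sheaf (fun V : ι => V.1.1) W
    (fun V => homOfLE V.2.1) (fun y hy => by
      obtain ⟨V, hV, hyV, hVW⟩ := exists_isAffineOpen_mem_and_subset (X := Y) (U := W) hy
      exact Opens.mem_iSup.mpr ⟨⟨⟨V, hV⟩, hVW, ⟨⟨y, hyV⟩⟩⟩, hyV⟩)
    c (fun V V' => by
      haveI := V.2.2; haveI := V'.2.2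
      by_cases hne : Nonempty (V.1.1 ⊓ V'.1.1 : Y.Opens)
      · haveI := hne
        apply Y.germToFunctionField_injective (V.1.1 ⊓ V'.1.1)
        refine (Y.presheaf.germ_res_apply _ (genericPoint Y) _ _).trans
          (((hc V).trans (hc V').symm).trans (Y.presheaf.germ_res_apply _ (genericPoint Y) _ _).symm)
      · refine TopCat.Presheaf.section_ext Y.sheaf _ _ _ fun y hy => ?_
        exact absurd ⟨⟨y, hy⟩⟩ hne)
  obtain ⟨w⟩ := (inferInstance : Nonempty W)
  obtain ⟨V, hV, hwV, hVW⟩ := exists_isAffineOpen_mem_and_subset (X := Y) (U := W) w.2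
  let i₀ : ι := ⟨⟨V, hV⟩, hVW, ⟨⟨w.1, hwV⟩⟩⟩
  haveI := i₀.2.2
  refine ⟨s, j.injective ?_⟩
  rw [IsFractionRing.lift_algebraMap hg]
  refine Eq.trans ?_ (hc i₀)
  rw [← hs i₀]
  exact (Y.presheaf.germ_res_apply (homOfLE i₀.2.1) (genericPoint Y) _ s).symm

variable {k : Type u} [Field k] {X Xt : Scheme.{u}}

theorem isNormalScheme_of_isIso_app (f : Xt ⟶ X) [IsIntegral X] [IsLocallyNoetherian X] [LocallyOfFiniteType f]
    (hfib : ∀ V : X.Opens, IsIso (f.app V)) (hXt : Pi1.IsNormalScheme Xt) : Pi1.IsNormalScheme X := by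
  haveI : IsLocallyNoetherian Xt := LocallyOfFiniteType.isLocallyNoetherian f
  let e : ∀ V : X.Opens, Γ(X, V) ≃+* Γ(Xt, f ⁻¹ᵁ V) := fun V =>
    haveI := hfib V; (asIso (f.app V)).commRingCatIsoToRingEquiv
  haveI hdom : IsDomain Γ(Xt, ⊤) := (e ⊤).symm.toMulEquiv.isDomain Γ(X, ⊤)
  haveI : Nonempty Xt := by
    by_contra hn
    rw [not_nonempty_iff] at hn
    exact false_of_nontrivial_of_subsingleton Γ(Xt, ⊤)
  haveI : ConnectedSpace Xt := by
    refine (Stein58.connectedSpace_iff_idempotent_gamma Xt).mpr ?_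
    exact ⟨inferInstance, fun a ha => IsIdempotentElem.iff_eq_zero_or_one.mp ha⟩
  haveI : IsIntegral Xt := SchBasics.isIntegral_iff_connectedSpace_and_isDomain.mpr
    ⟨inferInstance, fun x => (hXt x).1⟩
  intro x
  refine ⟨inferInstance, ?_⟩
  obtain ⟨V, hV, hxV, -⟩ := exists_isAffineOpen_mem_and_subset (X := X) (x := x) (U := ⊤) trivial
  haveI : Nonempty V := ⟨⟨x, hxV⟩⟩
  haveI : Nonempty (f ⁻¹ᵁ V : Xt.Opens) := by
    by_contra hn
    haveI : Subsingleton Γ(Xt, f ⁻¹ᵁ V) := by
      rw [show f ⁻¹ᵁ V = ⊥ from Opens.ext (Set.eq_empty_iff_forall_notMem.mpr fun y hy => hn ⟨⟨y, hy⟩⟩)]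
      infer_instance
    haveI := (e V).injective.subsingleton
    exact false_of_nontrivial_of_subsingleton Γ(X, V)
  haveI := isIntegrallyClosed_of_opens hXt (f ⁻¹ᵁ V)
  haveI : IsIntegrallyClosed Γ(X, V) := IsIntegrallyClosed.of_equiv (e V).symm
  let P := (hV.primeIdealOf ⟨x, hxV⟩).asIdeal
  letI := X.presheaf.algebra_section_stalk ⟨x, hxV⟩
  haveI : IsLocalization.AtPrime (X.presheaf.stalk x) P := hV.isLocalization_stalk ⟨x, hxV⟩
  exact isIntegrallyClosed_of_isLocalization (X.presheaf.stalk x) P.primeCompl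
    P.primeCompl_le_nonZeroDivisors

end Groth.Agent.NormalPush99
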